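import Mathlib
import Groth.Prelude.Def_FlatMod2
import Groth.Agent.Lib.QCoh.Abelian
import Groth.Agent.Lib.QCoh.Extension
import Groth.Agent.Lib.Euler.Coh

/-!
# Bounding numbers of generators by an open cover
-/

universe u

open CategoryTheory CategoryTheory.Limits AlgebraicGeometry Opposite TopologicalSpace

namespace GrothLib.GenCover

/-- An open cover of an affine scheme by opens containing basic opens of a partition of unity. -/
theorem exists_partition_of_unity {R : CommRingCat.{u}} {ι : Type*} [Fintype ι]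
    (U : ι → (Spec R).Opens) (hU : ⨆ i, U i = ⊤) :
    ∃ a : ι → R, Ideal.span (Set.range a) = ⊤ ∧ ∀ i, PrimeSpectrum.basicOpen (a i) ≤ U i := by
  classical
  let I : ι → Ideal R := fun i => PrimeSpectrum.vanishingIdeal ((U i : Set (Spec R))ᶜ)
  have hI : ⨆ i, I i = ⊤ := by
    by_contra h
    obtain ⟨m, hm, hle⟩ := Ideal.exists_le_maximal _ h
    have htop : (⟨m, hm.isPrime⟩ : Spec R) ∈ ⨆ i, U i := hU ▸ trivial
    obtain ⟨i, hi⟩ := Opens.mem_iSup.1 htop
    have hz : (⟨m, hm.isPrime⟩ : PrimeSpectrum R) ∈ PrimeSpectrum.zeroLocus (I i : Set R) :=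
      fun r hr => hle (le_iSup I i hr)
    rw [PrimeSpectrum.zeroLocus_vanishingIdeal_eq_closure] at hz
    exact (U i).isOpen.isClosed_compl.closure_eq.subset hz hi
  have h1 : (1 : R) ∈ ⨆ i, I i := hI ▸ Submodule.mem_top
  obtain ⟨a, ha, hsum⟩ := (Submodule.mem_iSup_iff_exists_finsupp I 1).1 h1
  refine ⟨fun i => a i, (Ideal.eq_top_iff_one _).2 ?_, fun i p hp => ?_⟩
  · rw [← hsum, Finsupp.sum_fintype _ _ (fun _ => rfl)]
    exact Ideal.sum_mem _ fun i _ => Ideal.subset_span ⟨i, rfl⟩
  · by_contra hn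
    exact hp ((PrimeSpectrum.mem_vanishingIdeal _ _).1 (ha i) p hn)

/-- Sections of a free module are combinations of the standard ones. -/
theorem freeMod_sections {Y : Scheme.{u}} (n : ℕ) (V : Y.Opens) :
    ∃ e : Fin n → Γ(FlatMod.freeMod Y n, V), Submodule.span Γ(Y, V) (Set.range e) = ⊤ := by
  classical
  let one : Γ(Coh.structureModule Y, V) := (1 : Γ(Y, V))
  let ι' : Fin n → (Coh.structureModule Y ⟶ FlatMod.freeMod Y n) :=
    fun k => Sigma.ι (fun _ : Fin n => Coh.structureModule Y) k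
  let π' : Fin n → (FlatMod.freeMod Y n ⟶ Coh.structureModule Y) :=
    fun k => Sigma.desc (fun j => if j = k then 𝟙 _ else 0)
  have hid : ∑ k, π' k ≫ ι' k = 𝟙 _ := by
    refine Sigma.hom_ext _ _ fun j => ?_
    rw [Preadditive.comp_sum, Category.comp_id, Finset.sum_eq_single j]
    · simp [π', ι']
    · intro k _ hk
      simp [π', ι', Ne.symm hk]
    · simp
  refine ⟨fun k => (ι' k).app V one, eq_top_iff.2 fun x _ => ?_⟩
  let E : (FlatMod.freeMod Y n ⟶ FlatMod.freeMod Y n) →+ Γ(FlatMod.freeMod Y n, V) :=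
    { toFun := fun g => g.app V x
      map_zero' := by rfl
      map_add' := fun g g' => by rfl }
  have hx : x = ∑ k, (ι' k).app V ((π' k).app V x) := by
    have h1 : E (𝟙 _) = x := rfl
    conv_lhs => rw [← h1, ← hid, map_sum]
    rfl
  rw [hx]
  refine Submodule.sum_mem _ fun k _ => ?_
  let c : Γ(Y, V) := (π' k).app V x
  have hc : (π' k).app V x = c • one := (mul_one c).symm
  rw [hc, Scheme.Modules.Hom.app_smul]
  exact Submodule.smul_mem _ _ (Submodule.subset_span ⟨k, rfl⟩)

/-- A quasi-coherent quotient of a free module of rank `n` has `n` generators on affine opens. -/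
theorem exists_sections_span {Y : Scheme.{u}} {N : Y.Modules} [N.IsQuasicoherent] {n : ℕ}
    (φ : FlatMod.freeMod Y n ⟶ N) [Epi φ] {V : Y.Opens} (hV : IsAffineOpen V) :
    ∃ t : Fin n → Γ(N, V), Submodule.span Γ(Y, V) (Set.range t) = ⊤ := by
  have := Euler.isQuasicoherent_freeMod Y n
  have := QCoh.isQuasicoherent_kernel φ
  let S : ShortComplex Y.Modules := ShortComplex.mk (kernel.ι φ) φ (kernel.condition φ)
  have hS : S.ShortExact :=
    { exact := S.exact_of_f_is_kernel (kernelIsKernel φ) }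
  have : S.X₁.IsQuasicoherent := ‹(kernel φ).IsQuasicoherent›
  have hsurj : Function.Surjective (φ.app V) := QCoh.app_surjective_of_isAffineOpen hS hV
  obtain ⟨e, he⟩ := freeMod_sections (Y := Y) n V
  refine ⟨fun k => φ.app V (e k), eq_top_iff.2 fun z _ => ?_⟩
  obtain ⟨x, rfl⟩ := hsurj z
  have hx : x ∈ Submodule.span Γ(Y, V) (Set.range e) := he ▸ Submodule.mem_top
  induction hx using Submodule.span_induction with
  | mem y hy => obtain ⟨k, rfl⟩ := hy; exact Submodule.subset_span ⟨k, rfl⟩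
  | zero => rw [map_zero]; exact zero_mem _
  | add a b _ _ ha hb => rw [map_add]; exact add_mem (ha trivial) (hb trivial)
  | smul r a _ ha => rw [Scheme.Modules.Hom.app_smul]; exact Submodule.smul_mem _ _ (ha trivial)

/-- Transport generators from the restriction to an open. -/
theorem exists_sections_span_of_le {X : Scheme.{u}} (F : X.Modules) [F.IsQuasicoherent] {n : ℕ}
    (U : X.Opens) (φ : FlatMod.freeMod (↑U) n ⟶ F.restrict U.ι) [Epi φ]
    {W : X.Opens} (hW : IsAffineOpen W) (hle : W ≤ U) :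
    ∃ t : Fin n → Γ(F, W), Submodule.span Γ(X, W) (Set.range t) = ⊤ := by
  let V : (U : Scheme.{u}).Opens := U.ι ⁻¹ᵁ W
  have hVW : U.ι ''ᵁ V = W := by
    rw [Scheme.Hom.image_preimage_eq_opensRange_inf, Scheme.Opens.opensRange_ι]
    exact inf_eq_right.2 hle
  have hV : IsAffineOpen V := by
    rw [← Scheme.Hom.isAffineOpen_iff_of_isOpenImmersion U.ι, hVW]
    exact hW
  have : (F.restrict U.ι).IsQuasicoherent := inferInstance
  obtain ⟨t, ht⟩ := exists_sections_span φ hV
  let g : Γ(F.restrict U.ι, V) → Γ(F, U.ι ''ᵁ V) := (F.restrictAppIso U.ι V).hom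
  have key : ∃ t : Fin n → Γ(F, U.ι ''ᵁ V), Submodule.span Γ(X, U.ι ''ᵁ V) (Set.range t) = ⊤ := by
    refine ⟨fun k => g (t k), eq_top_iff.2 fun z _ => ?_⟩
    have hz : (F.restrictAppIso U.ι V).inv z ∈ Submodule.span Γ(U, V) (Set.range t) :=
      ht ▸ Submodule.mem_top
    have : ∀ w ∈ Submodule.span Γ(U, V) (Set.range t),
        g w ∈ Submodule.span Γ(X, U.ι ''ᵁ V) (Set.range fun k => g (t k)) := by
      intro w hw
      induction hw using Submodule.span_induction with
      | mem y hy => obtain ⟨k, rfl⟩ := hy; exact Submodule.subset_span ⟨k, rfl⟩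
      | zero => exact (map_zero (F.restrictAppIso U.ι V).hom.hom).symm ▸ zero_mem _
      | add a b _ _ ha hb =>
        exact (map_add (F.restrictAppIso U.ι V).hom.hom a b).symm ▸ add_mem ha hb
      | smul r a _ ha =>
        have hr : g (r • a) = (U.ι.appIso V).inv r • g a :=
          ConcreteCategory.congr_hom (Scheme.Modules.smul_restrictAppIso_hom U.ι F V r) a
        rw [hr]
        exact Submodule.smul_mem _ _ ha
    exact this _ hz
  rwa [hVW] at key

/-- Generators on a basic open give global elements generating up to a power. -/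
theorem exists_pow_smul_mem_span {R : CommRingCat.{u}} (M : ModuleCat.{u} R) (a : R) {n : ℕ}
    (t : Fin n → Γ(tilde M, PrimeSpectrum.basicOpen a))
    (ht : Submodule.span Γ(Spec R, PrimeSpectrum.basicOpen a) (Set.range t) = ⊤) :
    ∃ m : Fin n → M, ∀ x : M, ∃ e : ℕ, a ^ e • x ∈ Submodule.span R (Set.range m) := by
  classical
  let W : (Spec R).Opens := PrimeSpectrum.basicOpen a
  let j : M →ₗ[R] Γ(tilde M, W) := (tilde.toOpen M W).hom
  have hloc : IsLocalizedModule.Away a j :=
    inferInstanceAs (IsLocalizedModule.Away a (tilde.toOpen M (PrimeSpectrum.basicOpen a)).hom)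
  have hs : ∀ k, ∃ (m : M) (e : ℕ), a ^ e • t k = j m := fun k => by
    obtain ⟨⟨m, ⟨s, e, rfl⟩⟩, hm⟩ := IsLocalizedModule.surj (Submonoid.powers a) j (t k)
    exact ⟨m, e, hm⟩
  choose m em hm using hs
  refine ⟨m, fun x => ?_⟩
  set S : Submodule R M := Submodule.span R (Set.range m)
  have key : ∀ z ∈ Submodule.span Γ(Spec R, W) (Set.range t), ∃ e : ℕ, a ^ e • z ∈ S.map j := by
    intro z hz
    induction hz using Submodule.span_induction with
    | mem y hy =>
      obtain ⟨k, rfl⟩ := hy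
      exact ⟨em k, m k, Submodule.subset_span ⟨k, rfl⟩, (hm k).symm⟩
    | zero => exact ⟨0, by rw [smul_zero]; exact zero_mem _⟩
    | add y y' _ _ hy hy' =>
      obtain ⟨e, he⟩ := hy
      obtain ⟨e', he'⟩ := hy'
      refine ⟨e' + e, ?_⟩
      rw [smul_add, pow_add]
      refine add_mem ?_ ?_
      · rw [mul_smul]; exact Submodule.smul_mem _ _ he
      · rw [mul_comm, mul_smul]; exact Submodule.smul_mem _ _ he'
    | smul c y _ hy =>
      obtain ⟨e, he⟩ := hy
      obtain ⟨⟨r, ⟨s, e', rfl⟩⟩, hr⟩ := IsLocalization.surj (Submonoid.powers a) (S := Γ(Spec R, W)) c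
      refine ⟨e' + e, ?_⟩
      have heq : a ^ (e' + e) • c • y = r • a ^ e • y := by
        have hr' : (a ^ e' : R) • c = algebraMap R Γ(Spec R, W) r := by
          rw [Algebra.smul_def, mul_comm]
          exact hr
        rw [pow_add, mul_smul, smul_comm (a ^ e) c y, ← smul_assoc (a ^ e') c, hr', algebraMap_smul]
      rw [heq]
      exact Submodule.smul_mem _ _ he
  obtain ⟨e, y, hy, hye⟩ := key (j x) (ht ▸ Submodule.mem_top)
  rw [← map_smul] at hye
  obtain ⟨⟨s, e', rfl⟩, hc⟩ := IsLocalizedModule.exists_of_eq (S := Submonoid.powers a) hye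
  refine ⟨e' + e, ?_⟩
  rw [pow_add, mul_smul]
  have hc' : a ^ e' • y = a ^ e' • a ^ e • x := hc
  rw [← hc']
  exact Submodule.smul_mem _ _ hy

/-- `m` opens, each needing `n` generators, give `n * m` generators. -/
theorem exists_span_eq_top {R : CommRingCat.{u}} (M : ModuleCat.{u} R) (n m : ℕ)
    (U : Fin m → (Spec R).Opens) (hU : ⨆ i, U i = ⊤)
    (hgen : ∀ i, ∃ φ : FlatMod.freeMod (↑(U i)) n ⟶ (tilde M).restrict (U i).ι, Epi φ) :
    ∃ s : Fin (n * m) → M, Submodule.span R (Set.range s) = ⊤ := by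
  obtain ⟨a, ha, hle⟩ := exists_partition_of_unity U hU
  have hloc : ∀ i, ∃ g : Fin n → M, ∀ x : M, ∃ e : ℕ, a i ^ e • x ∈ Submodule.span R (Set.range g) := by
    intro i
    obtain ⟨φ, hφ⟩ := hgen i
    have haff : IsAffineOpen (X := Spec R) (PrimeSpectrum.basicOpen (a i)) := by
      rw [← basicOpen_eq_of_affine]
      exact (isAffineOpen_top _).basicOpen _
    obtain ⟨t, ht⟩ := exists_sections_span_of_le (tilde M) (U i) φ haff (hle i)
    exact exists_pow_smul_mem_span M (a i) t ht
  choose g hg using hloc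
  refine ⟨fun k => g (finProdFinEquiv.symm k).2 (finProdFinEquiv.symm k).1, ?_⟩
  set S := Submodule.span R (Set.range fun k : Fin (n * m) =>
    g (finProdFinEquiv.symm k).2 (finProdFinEquiv.symm k).1)
  refine eq_top_iff.2 fun x _ => Submodule.mem_of_span_eq_top_of_smul_pow_mem S (Set.range a) ha x ?_
  rintro ⟨_, i, rfl⟩
  obtain ⟨e, he⟩ := hg i x
  refine ⟨e, Submodule.span_mono ?_ he⟩
  rintro _ ⟨k, rfl⟩
  exact ⟨finProdFinEquiv (k, i), by simp⟩

end GrothLib.GenCover
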