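import Mathlib
import Groth.Agent.Lib.GenCover.Basic

/-!
# Pullback of associated sheaves along morphisms of affine schemes
-/

universe u

open CategoryTheory CategoryTheory.Limits AlgebraicGeometry Opposite TopologicalSpace

namespace GrothLib.GenCover

/-- The pullback of `M~` along `Spec S ⟶ Spec R` is `(S ⊗ M)~`. -/
noncomputable def pullTildeIso {R S : CommRingCat.{u}} (φ : R ⟶ S) :
    tilde.functor R ⋙ Scheme.Modules.pullback (Spec.map φ) ≅
      ModuleCat.extendScalars φ.hom ⋙ tilde.functor S :=
  Adjunction.leftAdjointUniq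
    ((tilde.adjunction (R := R)).comp (Scheme.Modules.pullbackPushforwardAdjunction (Spec.map φ)))
    (((ModuleCat.extendRestrictScalarsAdj φ.hom).comp (tilde.adjunction (R := S))).ofNatIsoRight
      (Functor.isoWhiskerRight (pushforwardCompModulesSpecToSheafIso φ)
        (TopCat.Sheaf.forget _ _ ⋙ (evaluation _ _).obj (.op ⊤))).symm)

end GrothLib.GenCover
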