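import Mathlib
import Groth.Agent.Lib.GenCover.Basic

/-!
# A uniform bound on affine covers of fibre products with affine schemes
-/

universe u

open CategoryTheory CategoryTheory.Limits AlgebraicGeometry Opposite TopologicalSpace

namespace GrothLib.GenCover

/-- The opens of a fibre product over affine pieces are affine. -/
theorem isAffineOpen_pullback_piece {W Y T : Scheme.{u}} (j : W ⟶ Y) (g : T ⟶ Y) {V : W.Opens}
    {D : T.Opens} {Y₀ : Y.Opens} (hV : IsAffineOpen V) (hD : IsAffineOpen D) (hY : IsAffineOpen Y₀)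
    (hjV : V ≤ j ⁻¹ᵁ Y₀) (hgD : D ≤ g ⁻¹ᵁ Y₀) :
    IsAffineOpen ((pullback.fst j g) ⁻¹ᵁ V ⊓ (pullback.snd j g) ⁻¹ᵁ D) := by
  have : IsAffine V.toScheme := hV
  have : IsAffine D.toScheme := hD
  have : IsAffine Y₀.toScheme := hY
  let a : V.toScheme ⟶ Y₀.toScheme := j.resLE Y₀ V hjV
  let b : D.toScheme ⟶ Y₀.toScheme := g.resLE Y₀ D hgD
  let μ : pullback a b ⟶ pullback j g :=
    pullback.map a b j g V.ι D.ι Y₀.ι (Scheme.Hom.resLE_comp_ι _ _) (Scheme.Hom.resLE_comp_ι _ _)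
  have : IsOpenImmersion μ := inferInstance
  have hr : μ.opensRange = (pullback.fst j g) ⁻¹ᵁ V ⊓ (pullback.snd j g) ⁻¹ᵁ D := by
    refine Opens.ext ?_
    show Set.range μ = _
    rw [Scheme.Pullback.range_map]
    simp [Scheme.Opens.range_ι]
  rw [← hr]
  exact isAffineOpen_opensRange μ

/-- For quasi-compact `W` and quasi-compact quasi-separated `Y`, fibre products with affine
schemes over `Y` have boundedly many affine pieces. -/
theorem exists_bound_affine_cover {W Y : Scheme.{u}} (j : W ⟶ Y)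
    [CompactSpace W] [CompactSpace Y] [QuasiSeparatedSpace Y] :
    ∃ m : ℕ, ∀ (B : CommRingCat.{u}) (g : Spec B ⟶ Y),
      ∃ U : Fin m → (pullback j g).Opens, (∀ k, IsAffineOpen (U k)) ∧ ⨆ k, U k = ⊤ := by
  classical
  obtain ⟨s, hsfin, hs⟩ := (isCompact_iff_finite_and_eq_biUnion_affineOpens (X := Y) (U := ⊤)).1
    CompactSpace.isCompact_univ
  have := hsfin.fintype
  have hsY : ⨆ b : s, (b.1 : Y.Opens) = ⊤ := by
    refine eq_top_iff.2 fun y _ => ?_
    have hy : y ∈ ⨆ i ∈ s, ((i : Y.affineOpens) : Y.Opens) := hs ▸ trivial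
    simp only [Opens.mem_iSup] at hy
    obtain ⟨i, hi, hy⟩ := hy
    exact Opens.mem_iSup.2 ⟨⟨i, hi⟩, hy⟩
  have : QuasiCompact j := inferInstance
  have hW : ∀ b : s, ∃ t : Set W.affineOpens, t.Finite ∧
      (j ⁻¹ᵁ (b.1 : Y.Opens) : W.Opens) = ⨆ i ∈ t, ((i : W.affineOpens) : W.Opens) := fun b =>
    isCompact_iff_finite_and_eq_biUnion_affineOpens.1 (j.isCompact_preimage (b.1.2.isCompact))
  choose t htfin ht using hW
  have := fun b => (htfin b).fintype
  let κ := Σ b : s, t b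
  refine ⟨Fintype.card κ, fun B g => ?_⟩
  obtain ⟨a, ha, hle⟩ := exists_partition_of_unity (fun b : s => g ⁻¹ᵁ (b.1 : Y.Opens)) (by
    rw [← Scheme.Hom.preimage_iSup, hsY]
    exact Scheme.Hom.preimage_top g)
  let D : s → (Spec B).Opens := fun b => PrimeSpectrum.basicOpen (a b)
  let U : κ → (pullback j g).Opens := fun k =>
    (pullback.fst j g) ⁻¹ᵁ (k.2.1 : W.Opens) ⊓ (pullback.snd j g) ⁻¹ᵁ (D k.1)
  have hD : ∀ b, IsAffineOpen (D b) := fun b => by
    show IsAffineOpen (X := Spec B) (PrimeSpectrum.basicOpen (a b))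
    rw [← basicOpen_eq_of_affine]
    exact (isAffineOpen_top _).basicOpen _
  refine ⟨fun k => U ((Fintype.equivFin κ).symm k), fun k => ?_, ?_⟩
  · refine isAffineOpen_pullback_piece j g ((Fintype.equivFin κ).symm k).2.1.2 (hD _)
      ((Fintype.equivFin κ).symm k).1.1.2 ?_ (hle _)
    intro w hw
    rw [ht]
    exact Opens.mem_iSup.2 ⟨_, Opens.mem_iSup.2 ⟨((Fintype.equivFin κ).symm k).2.2, hw⟩⟩
  · refine eq_top_iff.2 fun x _ => ?_
    have hcov : ⨆ b, D b = ⊤ := PrimeSpectrum.iSup_basicOpen_eq_top_iff.2 ha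
    have hx : pullback.snd j g x ∈ ⨆ b, D b := hcov ▸ trivial
    obtain ⟨b, hb⟩ := Opens.mem_iSup.1 hx
    have hjx : pullback.fst j g x ∈ j ⁻¹ᵁ (b.1 : Y.Opens) := by
      show j (pullback.fst j g x) ∈ (b.1 : Y.Opens)
      rw [← Scheme.Hom.comp_apply, pullback.condition, Scheme.Hom.comp_apply]
      exact hle b hb
    rw [ht b] at hjx
    simp only [Opens.mem_iSup] at hjx
    obtain ⟨i, hi, hxi⟩ := hjx
    refine Opens.mem_iSup.2 ⟨Fintype.equivFin κ ⟨b, i, hi⟩, ?_⟩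
    simp only [Equiv.symm_apply_apply]
    exact ⟨hxi, hb⟩

end GrothLib.GenCover
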