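import Mathlib
import Groth.Prelude.Def_W4c5algebraiztannakaNis
import Groth.Agent.Lib.RedSub.Basic
import Groth.Agent.Lib.GenCover.AffineCount

/-!
# Nisnevich covers of bounded length
-/

universe u

open CategoryTheory CategoryTheory.Limits AlgebraicGeometry Opposite TopologicalSpace Topology

namespace GrothLib.GenCover

open W4c5algebraiztannaka

theorem isCompact_of_isConstructible {X : Type*} [TopologicalSpace X] [CompactSpace X] {s : Set X}
    (hs : IsConstructible s) : IsCompact s := by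
  refine BooleanSubalgebra.closure_sdiff_sup_induction (s := {U : Set X | IsOpen U ∧ IsRetrocompact U})
    (p := fun t _ => IsCompact t)
    ⟨fun _ ha _ hb => ⟨ha.1.union hb.1, ha.2.union hb.2⟩,
      fun _ ha _ hb => ⟨ha.1.inter hb.1, ha.2.inter_isOpen hb.2 hb.1⟩⟩
    ⟨isOpen_empty, .empty⟩ ⟨isOpen_univ, .univ⟩
    (fun a ha b hb => ha.2.isCompact.diff hb.1) (fun a _ b _ ha hb => ha.union hb) s hs

theorem isConstructible_preimage {X Y : Scheme.{u}} (f : X ⟶ Y) [CompactSpace X]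
    [QuasiSeparatedSpace X] [CompactSpace Y] [QuasiSeparatedSpace Y] {s : Set Y}
    (hs : IsConstructible s) : IsConstructible (f ⁻¹' s) :=
  hs.preimage f.continuous fun U hU hc =>
    (f.isCompact_preimage (U := ⟨U, hU⟩) hc.isCompact).isRetrocompact (hU.preimage f.continuous)

/-- Reduced subscheme structures on closed subsets of opens. -/
theorem exists_immersion_range {Y : Scheme.{u}} (V : Y.Opens) {C : Set Y} (hC : IsClosed C) :
    ∃ (T : Scheme.{u}) (i : T ⟶ V.toScheme), IsImmersion (i ≫ V.ι) ∧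
      Set.range (i ≫ V.ι) = (V : Set Y) ∩ C := by
  let C' : Closeds V.toScheme := ⟨V.ι ⁻¹' C, hC.preimage V.ι.continuous⟩
  refine ⟨_, (Scheme.IdealSheafData.vanishingIdeal C').subschemeι, inferInstance, ?_⟩
  rw [Scheme.Hom.comp_base, TopCat.coe_comp, Set.range_comp, Scheme.IdealSheafData.range_subschemeι,
    Scheme.IdealSheafData.coe_support_vanishingIdeal]
  show V.ι '' (V.ι ⁻¹' C) = _
  rw [Set.image_preimage_eq_range_inter, Scheme.Opens.range_ι]

theorem isNisCoverLen_sigma {U : Scheme.{u}} [CompactSpace U] [QuasiSeparatedSpace U]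
    (k : ℕ) (V : Fin k → U.Opens) (hV : ∀ i, IsCompact (V i : Set U)) (hcov : ⨆ i, V i = ⊤) :
    IsNisCoverLen
      (Limits.Sigma.desc (fun i => (V i).ι) : (∐ fun i => ((V i : U.Opens) : Scheme.{u})) ⟶ U) k := by
  classical
  let p : (∐ fun i => ((V i : U.Opens) : Scheme.{u})) ⟶ U := Limits.Sigma.desc (fun i => (V i).ι)
  refine ⟨IsZariskiLocalAtSource.sigmaDesc (fun i => inferInstance),
    ⟨fun j => (⋃ i : Fin k, ⋃ (_ : j.1 ≤ i.1), (V i : Set U))ᶜ, ?_, ?_, ?_, fun j => ⟨?_, ?_⟩, fun j => ?_⟩⟩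
  · rw [Set.compl_empty_iff]
    refine Set.eq_univ_of_forall fun x => ?_
    have hx : x ∈ ⨆ i, V i := hcov ▸ trivial
    obtain ⟨i, hi⟩ := Opens.mem_iSup.1 hx
    exact Set.mem_iUnion₂.2 ⟨i, Nat.zero_le _, hi⟩
  · rw [Set.compl_univ_iff]
    exact Set.iUnion_eq_empty.2 fun i => Set.iUnion_eq_empty.2 fun h => absurd h (by simp [i.2])
  · intro a b hab
    exact Set.compl_subset_compl.2 (Set.iUnion₂_mono' fun i hi => ⟨i, (Fin.le_def.1 hab).trans hi, le_rfl⟩)
  · exact (isOpen_iUnion fun i => isOpen_iUnion fun _ => (V i).2).isClosed_compl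
  · exact (IsConstructible.iUnion fun i => IsConstructible.iUnion fun _ =>
      (hV i).isConstructible (V i).2).compl
  · let C : Set U := (⋃ i : Fin k, ⋃ (_ : j.1 + 1 ≤ i.1), (V i : Set U))ᶜ
    have hC : IsClosed C := (isOpen_iUnion fun i => isOpen_iUnion fun _ => (V i).2).isClosed_compl
    obtain ⟨T, i, hi, hr⟩ := exists_immersion_range (V j) hC
    refine ⟨T, i ≫ (V j).ι, i ≫ Sigma.ι (fun i => ((V i : U.Opens) : Scheme.{u})) j, hi, ?_, ?_⟩
    · refine hr.trans (Set.ext fun x => ?_)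
      simp only [C, Set.mem_inter_iff, Set.mem_sdiff, Set.mem_compl_iff, Set.mem_iUnion, not_exists,
        Fin.val_succ, Fin.val_castSucc]
      refine ⟨fun h => ⟨h.2, fun h' => h' j le_rfl h.1⟩, ?_⟩
      rintro ⟨h1, h2⟩
      push Not at h2
      obtain ⟨i, hi, hx⟩ := h2
      rcases eq_or_lt_of_le hi with heq | hlt
      · exact ⟨(Fin.ext heq : j = i) ▸ hx, h1⟩
      · exact absurd hx (h1 i hlt)
    · simp

theorem hasSectOver_pullback {U Y Y' : Scheme.{u}} (f : U ⟶ Y) (g : Y' ⟶ Y) {W : Set Y}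
    (h : HasSectOver f W) : HasSectOver (pullback.snd f g) (g ⁻¹' W) := by
  obtain ⟨T, i, s, hi, hr, hs⟩ := h
  refine ⟨pullback i g, pullback.snd i g,
    pullback.lift (pullback.fst i g ≫ s) (pullback.snd i g) (by rw [Category.assoc, hs, pullback.condition]),
    inferInstance, ?_, pullback.lift_snd _ _ _⟩
  exact (Scheme.Pullback.range_snd i g).trans (congrArg (g ⁻¹' ·) hr)

theorem isNisCoverLen_pullback_snd {U Y Y' : Scheme.{u}} (f : U ⟶ Y) (g : Y' ⟶ Y)
    [CompactSpace Y] [QuasiSeparatedSpace Y] [CompactSpace Y'] [QuasiSeparatedSpace Y'] (m : ℕ)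
    (hf : IsNisCoverLen f m) : IsNisCoverLen (pullback.snd f g) m := by
  obtain ⟨het, Z, h0, h1, hmono, hcl, hsec⟩ := hf
  refine ⟨MorphismProperty.pullback_snd f g het, fun k => g ⁻¹' Z k, by simp [h0], by simp [h1],
    fun a b hab => Set.preimage_mono (hmono hab),
    fun k => ⟨(hcl k).1.preimage g.continuous, isConstructible_preimage g (hcl k).2⟩, fun k => ?_⟩
  have h := hasSectOver_pullback f g (hsec k)
  rwa [Set.preimage_sdiff] at h

end GrothLib.GenCover
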