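import Mathlib
import Groth.Agent.Lib.GenCover.NisBasic

/-!
# Composition of Nisnevich covers of bounded length
-/

universe u

open CategoryTheory CategoryTheory.Limits AlgebraicGeometry Opposite TopologicalSpace Topology

namespace GrothLib.GenCover

open W4c5algebraiztannaka

/-- A chain of `n` steps from `A` to `B` with sections over the steps. -/
def Steps {U Y : Scheme.{u}} (f : U ⟶ Y) (n : ℕ) (A B : Set Y) : Prop :=
  ∃ Z : ℕ → Set Y, Z 0 = A ∧ Z n = B ∧
    (∀ k ≤ n, IsClosed (Z k) ∧ IsConstructible (Z k)) ∧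
    ∀ k < n, Z k ⊆ Z (k + 1) ∧ HasSectOver f (Z (k + 1) \ Z k)

theorem Steps.trans {U Y : Scheme.{u}} {f : U ⟶ Y} {n n' : ℕ} {A B C : Set Y}
    (h : Steps f n A B) (h' : Steps f n' B C) : Steps f (n + n') A C := by
  obtain ⟨Z, h0, h1, hc, hs⟩ := h
  obtain ⟨Z', h0', h1', hc', hs'⟩ := h'
  refine ⟨fun k => if k ≤ n then Z k else Z' (k - n), by simp [h0], ?_, fun k hk => ?_, fun k hk => ?_⟩
  · show (if n + n' ≤ n then Z (n + n') else Z' (n + n' - n)) = C
    split_ifs with h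
    · rw [show n' = 0 by omega] at h1' ⊢
      rw [h1'] at h0'
      rw [Nat.add_zero, h1, h0']
    · rw [Nat.add_sub_cancel_left, h1']
  · dsimp only
    split_ifs with h
    · exact hc k h
    · exact hc' _ (by omega)
  · dsimp only
    by_cases h : k + 1 ≤ n
    · rw [if_pos h, if_pos (by omega)]
      exact hs k (by omega)
    · rw [if_neg h]
      by_cases h2 : k ≤ n
      · obtain rfl : k = n := by omega
        rw [if_pos le_rfl, show k + 1 - k = 1 by omega, h1, ← h0']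
        exact hs' 0 (by omega)
      · rw [if_neg h2, show k + 1 - n = (k - n) + 1 by omega]
        exact hs' _ (by omega)

theorem isNisCoverLen_iff_steps {U Y : Scheme.{u}} (f : U ⟶ Y) (m : ℕ) :
    IsNisCoverLen f m ↔ Etale f ∧ Steps f m ∅ Set.univ := by
  constructor
  · rintro ⟨het, Z, h0, h1, hmono, hcl, hsec⟩
    refine ⟨het, fun k => Z ⟨min k m, by omega⟩, ?_, ?_, fun k _ => hcl _, fun k hk => ⟨?_, ?_⟩⟩
    · exact (congrArg Z (Fin.ext (by simp))).trans h0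
    · exact (congrArg Z (Fin.ext (by simp))).trans h1
    · exact hmono (Fin.le_def.2 (by simp only; omega))
    · dsimp only
      rw [show (⟨min (k + 1) m, by omega⟩ : Fin (m + 1)) = (⟨k, hk⟩ : Fin m).succ from Fin.ext (by simp; omega),
        show (⟨min k m, by omega⟩ : Fin (m + 1)) = (⟨k, hk⟩ : Fin m).castSucc from Fin.ext (by simp; omega)]
      exact hsec _
  · rintro ⟨het, Z, h0, h1, hcl, hs⟩
    exact ⟨het, fun k => Z k, h0, h1, Fin.monotone_iff_le_succ.2 fun k => (hs k k.2).1,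
      fun k => hcl k (by omega), fun k => (hs k k.2).2⟩

theorem exists_compact_open_between {Y : Scheme.{u}} {K O : Set Y} (hK : IsCompact K) (hO : IsOpen O)
    (hle : K ⊆ O) : ∃ Q : Set Y, IsCompact Q ∧ IsOpen Q ∧ K ⊆ Q ∧ Q ⊆ O := by
  classical
  have h : ∀ x ∈ K, ∃ V : Y.Opens, IsAffineOpen V ∧ x ∈ V ∧ (V : Set Y) ⊆ O := fun x hx => by
    obtain ⟨V, hV, hxV, hVO⟩ := exists_isAffineOpen_mem_and_subset (x := x) (U := ⟨O, hO⟩) (hle hx)
    exact ⟨V, hV, hxV, hVO⟩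
  choose V hV hxV hVO using h
  obtain ⟨t, ht⟩ := hK.elim_finite_subcover (fun x : K => (V x.1 x.2 : Set Y)) (fun x => (V x.1 x.2).2)
    (fun x hx => Set.mem_iUnion.2 ⟨⟨x, hx⟩, hxV x hx⟩)
  exact ⟨⋃ x ∈ t, (V x.1 x.2 : Set Y), t.isCompact_biUnion fun x _ => (hV _ _).isCompact,
    isOpen_biUnion fun x _ => (V x.1 x.2).2, ht, Set.iUnion₂_subset fun x _ => hVO _ _⟩

/-- Refining one step of a chain. -/
theorem steps_comp {Y₁ Y₂ Y₃ : Scheme.{u}} (g₁ : Y₁ ⟶ Y₂) (g₂ : Y₂ ⟶ Y₃)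
    [CompactSpace Y₂] [QuasiSeparatedSpace Y₂] [CompactSpace Y₃] [QuasiSeparatedSpace Y₃] (m₁ : ℕ)
    (h₁ : IsNisCoverLen g₁ m₁) {A B : Set Y₃} (hA : IsClosed A ∧ IsConstructible A)
    (hB : IsClosed B ∧ IsConstructible B) (hAB : A ⊆ B) (hs : HasSectOver g₂ (B \ A)) :
    Steps (g₁ ≫ g₂) m₁ A B := by
  obtain ⟨T, i, s, hi, hr, hsi⟩ := hs
  obtain ⟨-, Z, h0, h1, hmono, hcl, hsec⟩ := h₁
  have hemb : IsEmbedding i := i.isEmbedding
  have hrange : Set.range i = B \ A := hr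
  have : CompactSpace T := by
    refine isCompact_univ_iff.1 (hemb.isCompact_iff.2 ?_)
    rw [Set.image_univ, hrange]
    exact isCompact_of_isConstructible (hB.2.sdiff hA.2)
  let z : ℕ → Set Y₂ := fun l => Z ⟨min l m₁, by omega⟩
  let V : ℕ → Set Y₃ := fun l => A ∪ i '' (s ⁻¹' z l)
  have hV0 : V 0 = A := by
    show A ∪ i '' (s ⁻¹' z 0) = A
    rw [show z 0 = ∅ from (congrArg Z (Fin.ext (by simp))).trans h0]
    simp
  have hV1 : V m₁ = B := by
    show A ∪ i '' (s ⁻¹' z m₁) = B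
    rw [show z m₁ = Set.univ from (congrArg Z (Fin.ext (by simp))).trans h1, Set.preimage_univ,
      Set.image_univ, hrange, Set.union_sdiff_cancel hAB]
  refine ⟨V, hV0, hV1, fun l _ => ?_, fun l hl => ⟨?_, ?_⟩⟩
  · have hzo : IsOpen (z l)ᶜ := (hcl _).1.isOpen_compl
    have hzc : IsCompact (z l)ᶜ := isCompact_of_isConstructible (hcl _).2.compl
    have hP : IsCompact (s ⁻¹' (z l)ᶜ) := s.isCompact_preimage (U := ⟨_, hzo⟩) hzc
    obtain ⟨Ω, hΩ, hΩP⟩ := hemb.isInducing.isOpen_iff.1 (hzo.preimage s.continuous)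
    have hsub : i '' (s ⁻¹' (z l)ᶜ) ⊆ Ω ∩ Aᶜ := by
      rintro _ ⟨t, ht, rfl⟩
      exact ⟨hΩP.ge ht, (hrange.subset ⟨t, rfl⟩).2⟩
    obtain ⟨Q, hQc, hQo, hPQ, hQsub⟩ := exists_compact_open_between (hP.image i.continuous)
      (hΩ.inter hA.1.isOpen_compl) hsub
    have heq : V l = B \ Q := by
      ext x
      constructor
      · rintro (hx | ⟨t, ht, rfl⟩)
        · exact ⟨hAB hx, fun hq => (hQsub hq).2 hx⟩
        · exact ⟨(hrange.subset ⟨t, rfl⟩).1, fun hq => (hΩP.le (hQsub hq).1) ht⟩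
      · rintro ⟨hxB, hxQ⟩
        by_cases hxA : x ∈ A
        · exact Or.inl hxA
        · obtain ⟨t, rfl⟩ := hrange.superset ⟨hxB, hxA⟩
          refine Or.inr ⟨t, ?_, rfl⟩
          by_contra ht
          exact hxQ (hPQ ⟨t, ht, rfl⟩)
    rw [heq]
    exact ⟨hB.1.sdiff hQo, hB.2.sdiff (hQc.isConstructible hQo)⟩
  · exact Set.union_subset_union_right _ (Set.image_mono (Set.preimage_mono
      (hmono (Fin.le_def.2 (by simp only; omega)))))
  · obtain ⟨T', i', s', hi', hr', hsi'⟩ := hsec ⟨l, hl⟩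
    refine ⟨pullback i' s, pullback.snd i' s ≫ i, pullback.fst i' s ≫ s', inferInstance, ?_, ?_⟩
    · show Set.range (pullback.snd i' s ≫ i) = _
      rw [Scheme.Hom.comp_base, TopCat.coe_comp, Set.range_comp, Scheme.Pullback.range_snd]
      rw [show Set.range i' = z (l + 1) \ z l from hr'.trans (by
        congr 2 <;> exact Fin.ext (by simp; omega))]
      have hdisj : Disjoint A (i '' (s ⁻¹' z (l + 1))) := Set.disjoint_right.2 (by
        rintro _ ⟨t, -, rfl⟩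
        exact (hrange.subset ⟨t, rfl⟩).2)
      rw [Set.preimage_sdiff, Set.image_sdiff hemb.injective]
      ext x
      simp only [V, Set.mem_sdiff, Set.mem_union, not_or]
      exact ⟨fun h => ⟨Or.inr h.1, fun hA => Set.disjoint_left.1 hdisj hA h.1, h.2⟩,
        fun h => ⟨h.1.resolve_left h.2.1, h.2.2⟩⟩
    · rw [Category.assoc, reassoc_of% hsi', pullback.condition_assoc, hsi]

theorem isNisCoverLen_comp {Y₁ Y₂ Y₃ : Scheme.{u}} (g₁ : Y₁ ⟶ Y₂) (g₂ : Y₂ ⟶ Y₃)
    [CompactSpace Y₂] [QuasiSeparatedSpace Y₂] [CompactSpace Y₃] [QuasiSeparatedSpace Y₃] (m₁ m₂ : ℕ)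
    (h₁ : IsNisCoverLen g₁ m₁) (h₂ : IsNisCoverLen g₂ m₂) :
    IsNisCoverLen (g₁ ≫ g₂) (m₁ * m₂) := by
  obtain ⟨het, Z, h0, h1, hcl, hs⟩ := (isNisCoverLen_iff_steps g₂ m₂).1 h₂
  have := h₁.etale
  have := het
  refine (isNisCoverLen_iff_steps _ _).2 ⟨inferInstance, ?_⟩
  have key : ∀ k ≤ m₂, Steps (g₁ ≫ g₂) (m₁ * k) (Z 0) (Z k) := by
    intro k
    induction k with
    | zero =>
      intro _
      exact ⟨fun _ => Z 0, rfl, rfl, fun _ _ => hcl 0 (by omega), fun l hl => by omega⟩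
    | succ k ih =>
      intro hk
      exact (ih (by omega)).trans (steps_comp g₁ g₂ m₁ h₁ (hcl k (by omega)) (hcl (k + 1) hk)
        (hs k (by omega)).1 (hs k (by omega)).2)
  rw [← h0, ← h1]
  exact key m₂ le_rfl

theorem exists_uniform_affine_cover_factor {U Y : Scheme.{u}} [IsAffine U]
    [CompactSpace Y] [QuasiSeparatedSpace Y] (f : U ⟶ Y) (m' : ℕ) (hf : IsNisCoverLen f m') :
    ∃ m : ℕ, ∀ (B : CommRingCat.{u}) (g : Spec B ⟶ Y),
      ∃ (V : Scheme.{u}) (_ : IsAffine V) (v : V ⟶ Spec B) (w : V ⟶ U),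
        IsNisCoverLen v m ∧ w ≫ f = v ≫ g := by
  obtain ⟨N, hN⟩ := exists_bound_affine_cover f
  refine ⟨N * m', fun B g => ?_⟩
  obtain ⟨W, hW, hcov⟩ := hN B g
  have : CompactSpace ↥(pullback f g) := QuasiCompact.compactSpace_of_compactSpace (pullback.snd f g)
  have : QuasiSeparatedSpace ↥(pullback f g) := quasiSeparatedSpace_of_quasiSeparated (pullback.snd f g)
  have : ∀ i, IsAffine ((W i : (pullback f g).Opens) : Scheme.{u}) := hW
  refine ⟨∐ fun i => ((W i : (pullback f g).Opens) : Scheme.{u}), inferInstance,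
    Sigma.desc (fun i => (W i).ι) ≫ pullback.snd f g, Sigma.desc (fun i => (W i).ι) ≫ pullback.fst f g,
    isNisCoverLen_comp _ _ N m' (isNisCoverLen_sigma N W (fun i => (hW i).isCompact) hcov)
      (isNisCoverLen_pullback_snd f g m' hf), by simp [pullback.condition]⟩

end GrothLib.GenCover
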