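import Mathlib
import Groth.Agent.Lib.GenCover.TildePull
import Groth.Agent.Lib.GenCover.NisBasic
import Groth.Agent.Lib.OX.LocFreeTensor

/-!
# Generators of a finite module from generators on a Nisnevich cover
-/

universe u

open CategoryTheory CategoryTheory.Limits AlgebraicGeometry Opposite TopologicalSpace Topology

namespace GrothLib.GenCover

open W4c5algebraiztannaka

/-- Global generators from an epimorphism out of a free module on an affine scheme. -/
theorem exists_span_eq_top_of_epi {R : CommRingCat.{u}} (M : ModuleCat.{u} R) {N : ℕ}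
    (φ : FlatMod.freeMod (Spec R) N ⟶ tilde M) [Epi φ] :
    ∃ m : Fin N → M, Submodule.span R (Set.range m) = ⊤ := by
  obtain ⟨t, ht⟩ := exists_sections_span φ (isAffineOpen_top (Spec R))
  let e : M ≃ₗ[R] Γ(tilde M, ⊤) := (tilde.isoTop M).toLinearEquiv
  refine ⟨fun k => e.symm (t k), eq_top_iff.2 fun x _ => ?_⟩
  have key : ∀ z ∈ Submodule.span Γ(Spec R, ⊤) (Set.range t),
      e.symm z ∈ Submodule.span R (Set.range fun k => e.symm (t k)) := by
    intro z hz
    induction hz using Submodule.span_induction with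
    | mem y hy => obtain ⟨k, rfl⟩ := hy; exact Submodule.subset_span ⟨k, rfl⟩
    | zero => rw [map_zero]; exact zero_mem _
    | add a b _ _ ha hb => rw [map_add]; exact add_mem ha hb
    | smul r a _ ha =>
      have hr : r • a = ((Scheme.ΓSpecIso R).hom r) • a := by
        rw [Scheme.Modules.smul_Spec_def]
        congr 1
        rw [show ((⊤ : (Spec R).Opens).leTop).op = 𝟙 _ from rfl]
        simp
      rw [hr, map_smul]
      exact Submodule.smul_mem _ _ ha
  have := key (e x) (ht ▸ Submodule.mem_top)
  rwa [e.symm_apply_apply] at this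

/-- Generators modulo the ideal of a closed subset over which the cover has a section. -/
theorem exists_generators_mod {R : CommRingCat.{u}} (M : ModuleCat.{u} R) {U : Scheme.{u}}
    (f : U ⟶ Spec R) {W : Set (Spec R)} (hs : HasSectOver f W) {N : ℕ}
    (φ : FlatMod.freeMod U N ⟶ (Scheme.Modules.pullback f).obj (tilde M)) [Epi φ]
    (J : Ideal R) (hJ : J.IsRadical) (hJW : PrimeSpectrum.zeroLocus (J : Set R) ⊆ W) :
    ∃ m : Fin N → M, Submodule.span R (Set.range m) ⊔ J • (⊤ : Submodule R M) = ⊤ := by
  obtain ⟨T, i, s, hi, hr, hsi⟩ := hs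
  let S : CommRingCat.{u} := CommRingCat.of (R ⧸ J)
  let π : R ⟶ S := CommRingCat.ofHom (Ideal.Quotient.mk J)
  let q : Spec S ⟶ Spec R := Spec.map π
  have : _root_.IsReduced S := (Ideal.isRadical_iff_quotient_reduced J).1 hJ
  have hq : Set.range q ⊆ Set.range i := by
    have h1 : Set.range q = PrimeSpectrum.zeroLocus (J : Set R) :=
      (range_comap_of_surjective _ π.hom Ideal.Quotient.mk_surjective).trans
        (by rw [show RingHom.ker π.hom = J from Ideal.mk_ker])
    rw [h1]
    exact hJW.trans hr.ge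
  obtain ⟨g, hg⟩ := RedSub.exists_lift q i hq
  let w : Spec S ⟶ U := g ≫ s
  have hw : w ≫ f = q := by rw [Category.assoc, hsi, hg]
  let Q : ModuleCat.{u} S := ModuleCat.of S (M ⧸ J • (⊤ : Submodule R M))
  let mk' : M ⟶ (ModuleCat.restrictScalars π.hom).obj Q :=
    ModuleCat.ofHom (Y := (ModuleCat.restrictScalars π.hom).obj Q)
      { toFun := Submodule.mkQ (J • (⊤ : Submodule R M))
        map_add' := map_add _
        map_smul' := fun r x => rfl }
  let k : (ModuleCat.extendScalars π.hom).obj M ⟶ Q :=
    ((ModuleCat.extendRestrictScalarsAdj π.hom).homEquiv M Q).symm mk'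
  have : Epi k := by
    refine (ModuleCat.epi_iff_surjective k).2 fun y => ?_
    obtain ⟨x, rfl⟩ := Submodule.mkQ_surjective _ y
    refine ⟨(ModuleCat.extendRestrictScalarsAdj π.hom).unit.app M x, ?_⟩
    exact ConcreteCategory.congr_hom
      (((ModuleCat.extendRestrictScalarsAdj π.hom).homEquiv_unit (f := k)).symm.trans
        (Equiv.apply_symm_apply _ mk')) x
  have : (Scheme.Modules.pullback w).IsLeftAdjoint :=
    (Scheme.Modules.pullbackPushforwardAdjunction w).isLeftAdjoint
  have : Epi ((Scheme.Modules.pullback w).map φ) := inferInstance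
  have := Functor.preservesEpimorphisms_of_adjunction (tilde.adjunction (R := S))
  have : Epi ((tilde.functor S).map k) := Functor.map_epi _ k
  let e : (Scheme.Modules.pullback w).obj ((Scheme.Modules.pullback f).obj (tilde M)) ≅
      (tilde.functor S).obj ((ModuleCat.extendScalars π.hom).obj M) :=
    (Scheme.Modules.pullbackComp w f).app (tilde M) ≪≫
      (Scheme.Modules.pullbackCongr hw).app (tilde M) ≪≫ (pullTildeIso π).app M
  let ψ : FlatMod.freeMod (Spec S) N ⟶ tilde Q :=
    (OX.pullFreeModIso w N).inv ≫ (Scheme.Modules.pullback w).map φ ≫ e.hom ≫ (tilde.functor S).map k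
  have : Epi ψ := inferInstanceAs (Epi ((OX.pullFreeModIso w N).inv ≫
    (Scheme.Modules.pullback w).map φ ≫ e.hom ≫ (tilde.functor S).map k))
  obtain ⟨t, ht⟩ := exists_span_eq_top_of_epi Q ψ
  choose m hm using fun l => Submodule.mkQ_surjective (J • (⊤ : Submodule R M)) (t l)
  refine ⟨m, eq_top_iff.2 fun x _ => ?_⟩
  have hx : Submodule.mkQ (J • (⊤ : Submodule R M)) x ∈
      Submodule.map (Submodule.mkQ (J • (⊤ : Submodule R M))) (Submodule.span R (Set.range m)) := by
    have hx' : (Submodule.mkQ (J • (⊤ : Submodule R M)) x : Q) ∈ Submodule.span S (Set.range t) :=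
      ht ▸ Submodule.mem_top
    generalize Submodule.mkQ (J • (⊤ : Submodule R M)) x = z at hx' ⊢
    induction hx' using Submodule.span_induction with
    | mem y hy => obtain ⟨l, rfl⟩ := hy; exact ⟨m l, Submodule.subset_span ⟨l, rfl⟩, hm l⟩
    | zero => exact zero_mem _
    | add a b _ _ ha hb => exact add_mem ha hb
    | smul r a _ ha =>
      obtain ⟨r, rfl⟩ := Ideal.Quotient.mk_surjective r
      exact Submodule.smul_mem _ r ha
  obtain ⟨y, hy, hyx⟩ := hx
  refine Submodule.mem_sup.2 ⟨y, hy, x - y, ?_, add_sub_cancel y x⟩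
  exact (Submodule.Quotient.eq _).1 hyx.symm

/-- Nakayama on a closed subset. -/
theorem notMem_support_of_sup_smul_eq_top {R : Type u} [CommRing R] {M : Type u} [AddCommGroup M]
    [Module R M] [Module.Finite R M] (S : Submodule R M) (J : Ideal R)
    (h : S ⊔ J • (⊤ : Submodule R M) = ⊤) (p : PrimeSpectrum R) (hp : J ≤ p.asIdeal) :
    p ∉ Module.support R (M ⧸ S) := by
  have hle : (⊤ : Submodule R (M ⧸ S)) ≤ J • ⊤ := by
    have h' := congrArg (Submodule.map S.mkQ) h
    rw [Submodule.map_sup, Submodule.mkQ_map_self, bot_sup_eq, Submodule.map_smul'',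
      Submodule.map_top, Submodule.range_mkQ] at h'
    exact h'.ge
  obtain ⟨r, hr1, hr⟩ := Submodule.exists_sub_one_mem_and_smul_eq_zero_of_fg_of_le_smul J
    (⊤ : Submodule R (M ⧸ S)) Module.Finite.fg_top hle
  rw [Module.mem_support_iff_of_finite]
  intro hann
  have hrp : r ∈ p.asIdeal := hann (Module.mem_annihilator.2 fun z => hr z Submodule.mem_top)
  refine p.2.ne_top ((Ideal.eq_top_iff_one _).2 ?_)
  rw [show (1 : R) = r - (r - 1) by ring]
  exact sub_mem hrp (hp hr1)

theorem exists_generators_of_isNisCoverLen {R : CommRingCat.{u}} (M : ModuleCat.{u} R)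
    [Module.Finite R M] {U : Scheme.{u}} (f : U ⟶ Spec R) (m N : ℕ) (hf : IsNisCoverLen f m)
    (φ : FlatMod.freeMod U N ⟶ (Scheme.Modules.pullback f).obj (tilde M)) [Epi φ] :
    ∃ s : Fin (N * m) → M, Submodule.span R (Set.range s) = ⊤ := by
  classical
  obtain ⟨-, Z, h0, h1, hmono, hcl, hsec⟩ := hf
  have key : ∀ j : Fin (m + 1), ∃ g : Fin j → Fin N → M, ∀ p ∈ Z j,
      p ∉ Module.support R (M ⧸ Submodule.span R (Set.range (Function.uncurry g))) := by
    intro j
    induction j using Fin.induction with
    | zero =>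
      refine ⟨fun l => l.elim0, fun p hp => ?_⟩
      rw [h0] at hp
      exact hp.elim
    | succ j ih =>
      obtain ⟨g, hg⟩ := ih
      set S := Submodule.span R (Set.range (Function.uncurry g))
      have hC : IsClosed (Z j.succ ∩ Module.support R (M ⧸ S)) :=
        (hcl _).1.inter (Module.support_eq_zeroLocus (R := R) (M := M ⧸ S) ▸ PrimeSpectrum.isClosed_zeroLocus _)
      let J := PrimeSpectrum.vanishingIdeal (Z j.succ ∩ Module.support R (M ⧸ S))
      have hJ : PrimeSpectrum.zeroLocus (J : Set R) = Z j.succ ∩ Module.support R (M ⧸ S) :=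
        (PrimeSpectrum.zeroLocus_vanishingIdeal_eq_closure _).trans hC.closure_eq
      obtain ⟨t, ht⟩ := exists_generators_mod M f (hsec j) φ J
        (PrimeSpectrum.isRadical_vanishingIdeal _) (by
          rw [hJ]
          exact fun p hp => ⟨hp.1, fun hp' => hg p hp' hp.2⟩)
      refine ⟨Fin.snoc (α := fun _ => Fin N → M) g t, fun p hp hps => ?_⟩
      have hle : S ⊔ Submodule.span R (Set.range t) ≤
          Submodule.span R (Set.range (Function.uncurry (Fin.snoc (α := fun _ => Fin N → M) g t))) := by
        refine sup_le (Submodule.span_mono ?_) (Submodule.span_mono ?_)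
        · rintro _ ⟨⟨a, b⟩, rfl⟩
          exact ⟨⟨a.castSucc, b⟩, by simp [Function.uncurry]⟩
        · rintro _ ⟨b, rfl⟩
          exact ⟨⟨Fin.last _, b⟩, by simp [Function.uncurry]⟩
      have hps' : p ∈ Module.support R (M ⧸ S) :=
        Module.support_subset_of_surjective (Submodule.factor (le_sup_left.trans hle))
          (Submodule.factor_surjective _) hps
      refine notMem_support_of_sup_smul_eq_top _ J ?_ p
        (show p ∈ PrimeSpectrum.zeroLocus (J : Set R) from hJ ▸ ⟨hp, hps'⟩) hps
      exact eq_top_iff.2 (ht.ge.trans (sup_le_sup_right (le_sup_right.trans hle) _))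
  obtain ⟨g, hg⟩ := key (Fin.last m)
  refine ⟨fun k => g (finProdFinEquiv.symm k).2 (finProdFinEquiv.symm k).1, ?_⟩
  set S := Submodule.span R (Set.range (Function.uncurry g)) with hS
  have hempty : Module.support R (M ⧸ S) = ∅ := by
    rw [h1] at hg
    exact Set.eq_empty_of_forall_notMem fun p => hg p trivial
  rw [Module.support_eq_empty_iff, Submodule.Quotient.subsingleton_iff] at hempty
  refine eq_top_iff.2 ((eq_top_iff.1 hempty).trans (Submodule.span_mono ?_))
  rintro _ ⟨⟨a, b⟩, rfl⟩
  exact ⟨finProdFinEquiv (b, a), by simp [Function.uncurry]⟩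

end GrothLib.GenCover
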